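import Cfsg.Agent.H984.Bs.Clifford

/-!
# S5733, BS33: irreducible subgroups of orthogonal groups containing `Ω` of a nondegenerate subspace (helper984)

`gen_omega`: `H ≤ O(V)` irreducible, `H` contains all Siegel transformations of a nondegenerate subspace `W₀` of
dimension at least 8.  Then `H ≥ Ω(V)` or `H` has a nondegenerate block of dimension at least 8.
-/

set_option autoImplicit false

namespace Cfsg.Agent.H984.Bs

open QuadraticMap Cfsg.Agent.LieClassical.OrthCore Cfsg.Agent.LieClassical.OrthTrans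
  Cfsg.Agent.LieClassical.OrthFinite Cfsg.Agent.H883.Root Cfsg.Agent.H883.Sub Cfsg.Agent.H847.Bs

variable {F V : Type*} [Field F] [AddCommGroup V] [Module F V] {Q : QuadraticForm F V} {H : Subgroup (V ≃ₗ[F] V)}

/-! ### lines -/

/-- the root group of the totally singular line `⟨s, t⟩` is contained in `H` -/
def Lr (Q : QuadraticForm F V) (H : Subgroup (V ≃ₗ[F] V)) (s t : V) : Prop :=
  Q s = 0 ∧ Q t = 0 ∧ polar Q s t = 0 ∧ ∀ c : F, Has Q H s (c • t)

theorem Lr.swap {s t : V} (h : Lr Q H s t) : Lr Q H t s := by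
  refine ⟨h.2.1, h.1, by rw [polar_comm]; exact h.2.2.1, fun c => ?_⟩
  have h1 := (h.2.2.2 (-c)).swap (by rw [QuadraticMap.map_smul, h.2.1, smul_zero])
  have h2 := Has.smul_right h1 h.2.1 (by rw [polar_neg_right, polar_comm, h.2.2.1, neg_zero])
  exact h2.congr rfl (by module)

theorem Lr.map {s t : V} (h : Lr Q H s t) {g : V ≃ₗ[F] V} (hgO : g ∈ O Q) (hg : g ∈ H) : Lr Q H (g s) (g t) := by
  refine ⟨by rw [hgO]; exact h.1, by rw [hgO]; exact h.2.1, by rw [polar_map hgO]; exact h.2.2.1, fun c => ?_⟩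
  have := (h.2.2.2 c).map hgO hg
  rwa [map_smul] at this

theorem Lr.sub {s t t' : V} (h : Lr Q H s t) (h' : Lr Q H s t') (hQ : Q (t - t') = 0) : Lr Q H s (t - t') := by
  refine ⟨h.1, hQ, ?_, fun c => ?_⟩
  · rw [polar_sub_right, h.2.2.1, h'.2.2.1, sub_zero]
  · rw [smul_sub]
    exact (h.2.2.2 c).sub (h'.2.2.2 c)

/-- change of the basis of the line -/
theorem Lr.sub_self {s t : V} (h : Lr Q H s t) (k : F) : Lr Q H s (t - k • s) := by
  have h1 : Q (t - k • s) = 0 := by
    rw [sub_eq_add_neg, Q_add, QuadraticMap.map_neg, QuadraticMap.map_smul, h.1, h.2.1, polar_neg_right, polar_smul_right,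
      polar_comm Q t s, h.2.2.1]
    simp
  refine ⟨h.1, h1, ?_, fun c => ?_⟩
  · rw [polar_sub_right, polar_smul_right, h.2.2.1, polar_self_of_sing h.1, smul_zero, sub_zero]
  · rw [smul_sub, smul_smul]
    exact (h.2.2.2 c).sub (has_self h.1 _)

/-- `H` contains all Siegel transformations of `W` -/
def HasW (Q : QuadraticForm F V) (H : Subgroup (V ≃ₗ[F] V)) (W : Submodule F V) : Prop :=
  ∀ u ∈ W, ∀ w ∈ W, Q u = 0 → polar Q u w = 0 → Has Q H u w

theorem HasW.lr {W : Submodule F V} (h : HasW Q H W) {s t : V} (hs : s ∈ W) (ht : t ∈ W) (hQs : Q s = 0)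
    (hQt : Q t = 0) (hst : polar Q s t = 0) : Lr Q H s t :=
  ⟨hQs, hQt, hst, fun c => h s hs _ (W.smul_mem c ht) hQs (by rw [polar_smul_right, hst, smul_zero])⟩

/-- the vectors `p` orthogonal to `W` such that `H` contains all `siegel x (c p)`, `x ∈ W` singular -/
def PP (Q : QuadraticForm F V) (H : Subgroup (V ≃ₗ[F] V)) (W : Submodule F V) : Submodule F V where
  carrier := {p | p ∈ perp Q W ∧ ∀ x ∈ W, Q x = 0 → ∀ c : F, Has Q H x (c • p)}
  add_mem' := by
    rintro a b ⟨ha, ha'⟩ ⟨hb, hb'⟩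
    exact ⟨Submodule.add_mem _ ha hb, fun x hx hQx c => by rw [smul_add]; exact (ha' x hx hQx c).add (hb' x hx hQx c)⟩
  zero_mem' := ⟨Submodule.zero_mem _, fun x hx hQx c => by rw [smul_zero]; exact has_zero hQx⟩
  smul_mem' := by
    rintro a p ⟨hp, hp'⟩
    exact ⟨Submodule.smul_mem _ _ hp, fun x hx hQx c => by rw [smul_smul]; exact hp' x hx hQx _⟩

theorem mem_PP {W : Submodule F V} {p : V} :
    p ∈ PP Q H W ↔ p ∈ perp Q W ∧ ∀ x ∈ W, Q x = 0 → ∀ c : F, Has Q H x (c • p) := Iff.rfl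

section fin

variable [Finite F] [FiniteDimensional F V] {W : Submodule F V}

omit [FiniteDimensional F V] in
theorem mem_PP_of_one (hH : H ≤ O Q) (hW : NondegOn Q W) (hd : 5 ≤ Module.finrank F W) (hasW : HasW Q H W) {x : V}
    (hx : x ∈ W) (hQx : Q x = 0) (hx0 : x ≠ 0) {p : V} (hp : p ∈ perp Q W) (h : ∀ c : F, Has Q H x (c • p)) :
    p ∈ PP Q H W := by
  refine ⟨hp, fun x' hx' hQx' c => ?_⟩
  by_cases hx'0 : x' = 0
  · rw [hx'0]; exact has_zero_left _
  obtain ⟨g, hg, e⟩ := EY_trans_sing (good_res hW hd) hx hx' hQx hQx' hx0 hx'0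
  have hgH : g ∈ H := EY_le_iff.2 hasW hg
  have h1 := (h c).map (hH hgH) hgH
  rw [e, EY_fix hg (v := c • p) (fun y hy => by rw [polar_smul_right, mem_perp.1 hp y hy, smul_zero])] at h1
  exact h1

omit [FiniteDimensional F V] in
theorem comp_PP (hH : H ≤ O Q) (hW : NondegOn Q W) (hd : 5 ≤ Module.finrank F W) (hasW : HasW Q H W) {x : V}
    (hx : x ∈ W) (hQx : Q x = 0) (hx0 : x ≠ 0) {a b : V} (ha : a ∈ W) (hb : b ∈ perp Q W)
    (h : ∀ c : F, Has Q H x (c • (a + b))) : b ∈ PP Q H W := by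
  refine mem_PP_of_one hH hW hd hasW hx hQx hx0 hb fun c => ?_
  have h1 := (h 1).perp
  rw [one_smul, polar_add_right, mem_perp.1 hb x hx, add_zero] at h1
  have h2 := h c
  rw [smul_add] at h2
  exact h2.of_add_left (hasW x hx _ (W.smul_mem _ ha) hQx (by rw [polar_smul_right, h1, smul_zero]))

/-- (4) -/
theorem four (hQ : Nondeg Q) (hH : H ≤ O Q) (hW : NondegOn Q W) (hd8 : 8 ≤ Module.finrank F W) (hasW : HasW Q H W)
    {a b c d : V} (ha : a ∈ W) (hb : b ∈ perp Q W) (hc : c ∈ W) (hd : d ∈ perp Q W) (h : Lr Q H (a + b) (c + d))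
    (hac : c ∉ Submodule.span F {a}) : b ∈ PP Q H W := by
  obtain ⟨x, hx, y, hy, hQx, hQy, hxy, hyx, hax, hay, hcx⟩ := ex_line hQ hW hd8 ha hc hac
  have hHas := hasW x hx y hy hQx hxy
  have hgH := hHas.mem hQx hxy
  have hax' : polar Q x a = 0 := by rwa [polar_comm]
  have hay' : polar Q y a = 0 := by rwa [polar_comm]
  have hbx : polar Q x b = 0 := mem_perp.1 hb x hx
  have hby : polar Q y b = 0 := mem_perp.1 hb y hy
  have hdx : polar Q x d = 0 := mem_perp.1 hd x hx
  have hdy : polar Q y d = 0 := mem_perp.1 hd y hy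
  have hcx' : polar Q x c ≠ 0 := by rwa [polar_comm]
  set x' : V := polar Q x c • y - polar Q y c • x with hx'
  have e1 : siegel Q x y hQx hxy (a + b) = a + b := by
    rw [siegel_apply, polar_add_right, polar_add_right, hax', hay', hbx, hby]
    simp
  have e2 : siegel Q x y hQx hxy (c + d) = (c + d) + x' := by
    rw [siegel_apply, polar_add_right, polar_add_right, hdx, hdy, hQy, hx']
    simp only [add_zero, zero_mul, zero_smul, sub_zero]
    abel
  have hQx' : Q x' = 0 := by
    rw [hx', sub_eq_add_neg, Q_add, QuadraticMap.map_neg, QuadraticMap.map_smul, QuadraticMap.map_smul, hQx, hQy,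
      polar_neg_right, polar_smul_left, polar_smul_right, polar_comm Q y x, hxy]
    simp
  have hx'W : x' ∈ W := W.sub_mem (W.smul_mem _ hy) (W.smul_mem _ hx)
  have hx'0 : x' ≠ 0 := by
    intro h0
    apply hyx
    rw [Submodule.mem_span_singleton]
    refine ⟨(polar Q x c)⁻¹ * polar Q y c, ?_⟩
    rw [hx', sub_eq_zero] at h0
    rw [mul_smul, ← h0, smul_smul, inv_mul_cancel₀ hcx', one_smul]
  have h1 := h.map (hH hgH) hgH
  rw [e1, e2] at h1
  have h2 := h1.sub h (by rw [add_sub_cancel_left]; exact hQx')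
  rw [add_sub_cancel_left] at h2
  exact comp_PP hH hW (by omega) hasW hx'W hQx' hx'0 ha hb h2.swap.2.2.2

/-- (5) -/
theorem five (hQ : Nondeg Q) (hH : H ≤ O Q) (hW : NondegOn Q W) (hd8 : 8 ≤ Module.finrank F W) (hasW : HasW Q H W)
    (hiso : ∀ p ∈ PP Q H W, ∀ p' ∈ PP Q H W, polar Q p p' = 0) {p s t : V} (hp : p ∈ PP Q H W) (h : Lr Q H s t)
    (hs : polar Q s p ≠ 0) (ht : polar Q t p = 0) : t ∈ PP Q H W := by
  obtain ⟨a, ha, b, hb, rfl⟩ := hW.exists_decomp s
  obtain ⟨c, hc, d, hd, rfl⟩ := hW.exists_decomp t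
  have hap : polar Q a p = 0 := mem_perp.1 hp.1 a ha
  have hcp : polar Q c p = 0 := mem_perp.1 hp.1 c hc
  -- the transformations `siegel x p`
  have key : ∀ x ∈ W, Q x = 0 → polar Q x a = 0 → polar Q x c = 0 →
      Lr Q H ((a - polar Q (a + b) p • x) + b) (c + d) := by
    intro x hx hQx hxa hxc
    have hHas := hp.2 x hx hQx 1
    rw [one_smul] at hHas
    have hxp := hHas.perp
    have hgH := hHas.mem hQx hxp
    have h1 := h.map (hH hgH) hgH
    have e1 : siegel Q x p hQx hxp (a + b) = (a - polar Q (a + b) p • x) + b := by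
      rw [siegel_apply, polar_add_right Q x a b, hxa, mem_perp.1 hb x hx, polar_comm Q p (a + b)]
      simp only [add_zero, zero_smul, mul_zero, sub_zero]
      abel
    have e2 : siegel Q x p hQx hxp (c + d) = c + d := by
      rw [siegel_apply, polar_add_right Q x c d, hxc, mem_perp.1 hd x hx, polar_comm Q p (c + d), ht]
      simp
    rwa [e1, e2] at h1
  have hc0 : c = 0 := by
    by_contra hc0
    have hf := finrank_span_pair_le (F := F) a c
    obtain ⟨x, hx, hxo, hxn, hQx⟩ := ex_sing hQ W (Submodule.span F {a, c}) (Submodule.span F {a, c}) (by omega)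
    have h1 := key x hx hQx (by rw [polar_comm]; exact hxo a (Submodule.subset_span (by simp)))
      (by rw [polar_comm]; exact hxo c (Submodule.subset_span (by simp)))
    have h2 : b ∈ PP Q H W := by
      refine four hQ hH hW hd8 hasW (W.sub_mem ha (W.smul_mem _ hx)) hb hc hd h1 ?_
      intro hmem
      obtain ⟨k, hk⟩ := Submodule.mem_span_singleton.1 hmem
      by_cases hk0 : k = 0
      · rw [hk0, zero_smul] at hk
        exact hc0 hk.symm
      · apply hxn
        rw [Submodule.mem_span_pair]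
        refine ⟨(polar Q (a + b) p)⁻¹, -((polar Q (a + b) p)⁻¹ * k⁻¹), ?_⟩
        have h3 : polar Q (a + b) p • x = a - k⁻¹ • c := by
          rw [← hk, smul_smul, inv_mul_cancel₀ hk0, one_smul]
          abel
        have h4 : x = (polar Q (a + b) p)⁻¹ • (polar Q (a + b) p • x) := by
          rw [smul_smul, inv_mul_cancel₀ hs, one_smul]
        rw [h4, h3]
        module
    have h3 := hiso b h2 p hp
    rw [polar_add_left, hap, h3, add_zero] at hs
    exact hs rfl
  subst hc0
  -- a vector with nonzero first component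
  obtain ⟨a', ha', hn, hLr⟩ : ∃ a' ∈ W, a' ≠ 0 ∧ Lr Q H (a' + b) (0 + d) := by
    by_cases ha0 : a = 0
    · obtain ⟨x, hx, -, hxn, hQx⟩ := ex_sing hQ W ⊥ ⊥ (by rw [finrank_bot]; omega)
      have h1 := key x hx hQx (by rw [ha0, polar_zero_right]) (polar_zero_right Q x)
      refine ⟨_, W.sub_mem ha (W.smul_mem _ hx), ?_, h1⟩
      rw [ha0, zero_sub, neg_ne_zero]
      rw [ha0] at hs
      exact smul_ne_zero hs (fun h0 => hxn (by rw [h0]; exact Submodule.zero_mem _))
    · exact ⟨a, ha, ha0, h⟩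
  rw [zero_add]
  refine four hQ hH hW hd8 hasW W.zero_mem hd ha' hb hLr.swap ?_
  rw [Submodule.span_zero_singleton, Submodule.mem_bot]
  exact hn

/-- (5') -/
theorem five' (hQ : Nondeg Q) (hH : H ≤ O Q) (hW : NondegOn Q W) (hd8 : 8 ≤ Module.finrank F W) (hasW : HasW Q H W)
    (hiso : ∀ p ∈ PP Q H W, ∀ p' ∈ PP Q H W, polar Q p p' = 0) {p s t : V} (hp : p ∈ PP Q H W) (h : Lr Q H s t) :
    polar Q s p • t - polar Q t p • s ∈ PP Q H W := by
  have key : ∀ s t : V, Lr Q H s t → polar Q s p ≠ 0 → polar Q s p • t - polar Q t p • s ∈ PP Q H W := by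
    intro s t h hs
    have h1 := five hQ hH hW hd8 hasW hiso hp (h.sub_self (polar Q t p * (polar Q s p)⁻¹)) hs (by
      rw [polar_sub_left, polar_smul_left, smul_eq_mul, mul_assoc, inv_mul_cancel₀ hs, mul_one, sub_self])
    have h2 := (PP Q H W).smul_mem (polar Q s p) h1
    rw [smul_sub, smul_smul, mul_comm (polar Q t p), ← mul_assoc, mul_inv_cancel₀ hs, one_mul] at h2
    exact h2
  by_cases hs : polar Q s p = 0
  · by_cases ht : polar Q t p = 0
    · rw [hs, ht, zero_smul, zero_smul, sub_zero]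
      exact Submodule.zero_mem _
    · have h1 := (PP Q H W).neg_mem (key t s h.swap ht)
      rwa [neg_sub] at h1
  · exact key s t h hs

/-! ### (3) -/

/-- the restriction of `H` to `Y` -/
def resG (Q : QuadraticForm F V) (H : Subgroup (V ≃ₗ[F] V)) (Y : Submodule F V) : Subgroup (Y ≃ₗ[F] Y) where
  carrier := {g | ∃ h ∈ H, (∀ y : Y, h (y : V) = (g y : V)) ∧ ∀ z ∈ perp Q Y, h z = z}
  mul_mem' := by
    rintro g g' ⟨h, hh, h1, h2⟩ ⟨h', hh', h1', h2'⟩
    refine ⟨h * h', H.mul_mem hh hh', fun y => ?_, fun z hz => ?_⟩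
    · show h (h' y) = _
      rw [h1', h1]; rfl
    · show h (h' z) = z
      rw [h2' z hz, h2 z hz]
  one_mem' := ⟨1, H.one_mem, fun _ => rfl, fun _ _ => rfl⟩
  inv_mem' := by
    rintro g ⟨h, hh, h1, h2⟩
    refine ⟨h⁻¹, H.inv_mem hh, fun y => ?_, fun z hz => ?_⟩
    · show h.symm (y : V) = _
      rw [LinearEquiv.symm_apply_eq, h1]
      congr 1
      exact (LinearEquiv.apply_symm_apply g y).symm
    · show h.symm z = z
      rw [LinearEquiv.symm_apply_eq, h2 z hz]

omit [Finite F] [FiniteDimensional F V] in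
theorem has_resG {Y : Submodule F V} {u w : Y} (h : Has Q H (u : V) (w : V)) : Has (res Q Y) (resG Q H Y) u w := by
  have hu : (res Q Y) u = 0 := h.1
  have hw : polar (res Q Y) u w = 0 := h.2.1
  refine ⟨hu, hw, siegel Q (u : V) (w : V) h.1 h.2.1, h.2.2, fun y => ?_, fun z hz => ?_⟩
  · rw [siegel_apply h.1 h.2.1, siegel_apply hu hw]
    rfl
  · exact siegel_fix h.1 h.2.1 (mem_perp.1 hz u u.2) (mem_perp.1 hz w w.2)

omit [Finite F] in
theorem has_of_resG {Y : Submodule F V} (hY : NondegOn Q Y) {u w : Y} (h : Has (res Q Y) (resG Q H Y) u w) :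
    Has Q H (u : V) (w : V) := by
  obtain ⟨hu, hw, g, hg, h1, h2⟩ := h
  have hu' : Q (u : V) = 0 := hu
  have hw' : polar Q (u : V) (w : V) = 0 := hw
  refine ⟨hu', hw', ?_⟩
  have e : siegel Q (u : V) (w : V) hu' hw' = g := by
    ext v
    obtain ⟨y, hy, z, hz, rfl⟩ := hY.exists_decomp v
    rw [map_add, map_add, h2 z hz, siegel_fix hu' hw' (mem_perp.1 hz u u.2) (mem_perp.1 hz w w.2)]
    have h3 := h1 ⟨y, hy⟩
    have h4 : g y = siegel Q (u : V) (w : V) hu' hw' y := by
      rw [siegel_apply]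
      rw [siegel_apply] at h3
      exact h3
    rw [h4]
  rw [e]
  exact hg

theorem hasW_sup (hW : NondegOn Q W) (hd : 5 ≤ Module.finrank F W) (hasW : HasW Q H W) {P : Submodule F V}
    (hP : P ≤ PP Q H W) (hPn : NondegOn Q P) : NondegOn Q (W ⊔ P) ∧ HasW Q H (W ⊔ P) := by
  have hPW : ∀ x ∈ W, ∀ p ∈ P, polar Q x p = 0 := fun x hx p hp => mem_perp.1 (hP hp).1 x hx
  have hN : NondegOn Q (W ⊔ P) := by
    intro y hy hy'
    obtain ⟨a, ha, b, hb, rfl⟩ := Submodule.mem_sup.1 hy
    have ha0 : a = 0 := by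
      refine hW a ha fun z hz => ?_
      have h1 := hy' z (Submodule.mem_sup_left hz)
      rw [polar_add_left, polar_comm Q b z, hPW z hz b hb, add_zero] at h1
      exact h1
    have hb0 : b = 0 := by
      refine hPn b hb fun z hz => ?_
      have h1 := hy' z (Submodule.mem_sup_right hz)
      rw [polar_add_left, hPW a ha z hz, zero_add] at h1
      exact h1
    rw [ha0, hb0, add_zero]
  refine ⟨hN, ?_⟩
  have hle : Module.finrank F W ≤ Module.finrank F (W ⊔ P : Submodule F V) := Submodule.finrank_mono le_sup_left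
  have hG : Good (res Q (W ⊔ P)) := good_res hN (by omega)
  have hfull : ∀ x (hx : x ∈ W), Q x = 0 → Full (res Q (W ⊔ P)) (resG Q H (W ⊔ P)) ⟨x, Submodule.mem_sup_left hx⟩ := by
    intro x hx hQx
    refine ⟨hQx, fun w hw => has_resG ?_⟩
    obtain ⟨a, ha, b, hb, e⟩ := Submodule.mem_sup.1 w.2
    have hw' : polar Q x (w : V) = 0 := hw
    show Has Q H x (w : V)
    rw [← e] at hw' ⊢
    rw [polar_add_right, hPW x hx b hb, add_zero] at hw'
    refine (hasW x hx a ha hQx hw').add ?_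
    have := (hP hb).2 x hx hQx 1
    rwa [one_smul] at this
  obtain ⟨x, y, hxy⟩ := (good_res hW hd).exists_hyp
  have hpol : polar Q (x : V) (y : V) = 1 := hxy.pair
  have hE := E_le_of_full_pair hG (hfull x x.2 hxy.left) (hfull y y.2 hxy.right) (by
    show polar Q (x : V) (y : V) ≠ 0
    rw [hpol]; exact one_ne_zero)
  intro u hu w hw hQu huw
  have h1 : Has (res Q (W ⊔ P)) (E (res Q (W ⊔ P))) ⟨u, hu⟩ ⟨w, hw⟩ := has_E hQu huw
  exact has_of_resG hN (h1.mono hE)

omit [Finite F] [FiniteDimensional F V] in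
/-- a space without nondegenerate subspaces is totally isotropic for the polar form -/
theorem isotropic_of {P : Submodule F V} (h : ∀ P' ≤ P, NondegOn Q P' → P' = ⊥) :
    ∀ p ∈ P, ∀ p' ∈ P, polar Q p p' = 0 := by
  have h1 : ∀ p ∈ P, polar Q p p = 0 := by
    intro p hp
    by_contra hne
    have h2 := h (Submodule.span F {p}) (by rw [Submodule.span_le, Set.singleton_subset_iff]; exact hp) (by
      intro y hy hy'
      obtain ⟨k, rfl⟩ := Submodule.mem_span_singleton.1 hy
      have h3 := hy' p (Submodule.mem_span_singleton_self p)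
      rw [polar_smul_left, smul_eq_mul] at h3
      rw [(mul_eq_zero.1 h3).resolve_right hne, zero_smul])
    rw [Submodule.span_singleton_eq_bot] at h2
    rw [h2, polar_zero_left] at hne
    exact hne rfl
  intro p hp p' hp'
  by_contra hne
  have h2 := h (Submodule.span F {p, p'}) (by
    rw [Submodule.span_le]
    rintro z (rfl | hz)
    · exact hp
    · rw [Set.mem_singleton_iff] at hz
      rw [hz]; exact hp') (by
    intro y hy hy'
    obtain ⟨k, l, rfl⟩ := Submodule.mem_span_pair.1 hy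
    have h3 := hy' p (Submodule.subset_span (by simp))
    have h4 := hy' p' (Submodule.subset_span (by simp))
    rw [polar_add_left, polar_smul_left, polar_smul_left, h1 p hp, polar_comm Q p' p, smul_zero, zero_add,
      smul_eq_mul] at h3
    rw [polar_add_left, polar_smul_left, polar_smul_left, h1 p' hp', smul_zero, add_zero, smul_eq_mul] at h4
    rw [(mul_eq_zero.1 h3).resolve_right hne, (mul_eq_zero.1 h4).resolve_right hne]
    simp)
  have h3 : p ∈ Submodule.span F {p, p'} := Submodule.subset_span (by simp)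
  rw [h2, Submodule.mem_bot] at h3
  rw [h3, polar_zero_left] at hne
  exact hne rfl

/-- for maximal `W` the space `PP` is isotropic -/
theorem iso_of_max (hW : NondegOn Q W) (hd : 5 ≤ Module.finrank F W) (hasW : HasW Q H W)
    (hmax : ∀ W' : Submodule F V, NondegOn Q W' → HasW Q H W' → W ≤ W' → W' = W) :
    ∀ p ∈ PP Q H W, ∀ p' ∈ PP Q H W, polar Q p p' = 0 := by
  refine isotropic_of fun P' hP' hn => ?_
  obtain ⟨h1, h2⟩ := hasW_sup hW hd hasW hP' hn
  have h3 := hmax _ h1 h2 le_sup_left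
  rw [eq_bot_iff]
  intro p hp
  have h4 : p ∈ W := by rw [← h3]; exact Submodule.mem_sup_right hp
  rw [Submodule.mem_bot]
  exact hW p h4 fun z hz => by rw [polar_comm]; exact mem_perp.1 (hP' hp).1 z hz

/-! ### (6): `PP = 0` -/

/-- the group generated by the root groups of the lines -/
def RR (Q : QuadraticForm F V) (H : Subgroup (V ≃ₗ[F] V)) : Subgroup (V ≃ₗ[F] V) :=
  Subgroup.closure {g | ∃ (s t : V) (hs : Q s = 0) (ht : polar Q s t = 0), Lr Q H s t ∧ g = siegel Q s t hs ht}

omit [Finite F] [FiniteDimensional F V] in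
theorem mem_RR {s t : V} (h : Lr Q H s t) : siegel Q s t h.1 h.2.2.1 ∈ RR Q H :=
  Subgroup.subset_closure ⟨s, t, h.1, h.2.2.1, h, rfl⟩

omit [Finite F] [FiniteDimensional F V] in
theorem RR_conj (hH : H ≤ O Q) {h r : V ≃ₗ[F] V} (hh : h ∈ H) (hr : r ∈ RR Q H) : h * r * h⁻¹ ∈ RR Q H := by
  induction hr using Subgroup.closure_induction with
  | mem x hx =>
    obtain ⟨s, t, hs, ht, hL, rfl⟩ := hx
    have h1 := hL.map (hH hh) hh
    have h2 : h * siegel Q s t hs ht * h⁻¹ = siegel Q (h s) (h t) h1.1 h1.2.2.1 :=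
      siegel_conj (hH hh) hs ht h1.1 h1.2.2.1
    rw [h2]
    exact mem_RR h1
  | one => rw [mul_one, mul_inv_cancel]; exact Subgroup.one_mem _
  | mul x y _ _ hx hy =>
    have e : h * (x * y) * h⁻¹ = (h * x * h⁻¹) * (h * y * h⁻¹) := by group
    rw [e]; exact Subgroup.mul_mem _ hx hy
  | inv x _ hx =>
    have e : h * x⁻¹ * h⁻¹ = (h * x * h⁻¹)⁻¹ := by group
    rw [e]; exact Subgroup.inv_mem _ hx

theorem RR_inv_PP (hQ : Nondeg Q) (hH : H ≤ O Q) (hW : NondegOn Q W) (hd8 : 8 ≤ Module.finrank F W) (hasW : HasW Q H W)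
    (hiso : ∀ p ∈ PP Q H W, ∀ p' ∈ PP Q H W, polar Q p p' = 0) : ∀ r ∈ RR Q H, Inv r (PP Q H W) := by
  have key : RR Q H ≤ Cfsg.Agent.H883.Bridge.stab (PP Q H W) := by
    rw [RR, Subgroup.closure_le]
    rintro _ ⟨s, t, hs, ht, hL, rfl⟩
    refine Cfsg.Agent.H883.Bridge.mem_stab_of_le fun p hp => ?_
    have h1 := five' hQ hH hW hd8 hasW hiso hp hL
    rw [siegel_apply, hL.2.1, zero_mul, zero_smul, sub_zero, add_sub_assoc]
    exact Submodule.add_mem _ hp h1
  intro r hr v hv
  exact (Cfsg.Agent.H883.Bridge.mem_stab.1 (key hr) v).1 hv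

theorem PP_eq_bot (hQ : Nondeg Q) (hH : H ≤ O Q) (hirr : IrrG H) (hW : NondegOn Q W) (hd8 : 8 ≤ Module.finrank F W)
    (hasW : HasW Q H W) (hiso : ∀ p ∈ PP Q H W, ∀ p' ∈ PP Q H W, polar Q p p' = 0) : PP Q H W = ⊥ := by
  obtain ⟨C, hC, hcomp⟩ := exists_compl (H := H) (R := RR Q H) (fun h hh r hr => by
    have := RR_conj hH (H.inv_mem hh) hr
    rwa [inv_inv] at this) hirr (RR_inv_PP hQ hH hW hd8 hasW hiso)
  -- singular vectors of `W` are in `C`
  have hsing : ∀ x ∈ W, Q x = 0 → x ∈ C := by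
    intro x hx hQx
    by_cases hx0 : x = 0
    · rw [hx0]; exact C.zero_mem
    have h1 := finrank_span_single_le (F := F) x
    obtain ⟨y, hy, hyo, hyn, hQy⟩ := ex_sing hQ W (Submodule.span F {x}) (Submodule.span F {x}) (by omega)
    have hxy := hyo x (Submodule.mem_span_singleton_self x)
    obtain ⟨v, hxv, hyv⟩ := exists_sep hQ (x := y) (z := x) (by
      intro c hc
      apply hyn
      rw [hc]
      exact Submodule.smul_mem _ _ (Submodule.mem_span_singleton_self x))
    have hL := hasW.lr hx hy hQx hQy hxy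
    obtain ⟨p, hp, c, hc, e⟩ : ∃ p ∈ PP Q H W, ∃ c ∈ C, p + c = v := by
      have : v ∈ PP Q H W ⊔ C := by rw [hcomp.sup_eq_top]; exact Submodule.mem_top
      exact Submodule.mem_sup.1 this
    have hgv : siegel Q x y hL.1 hL.2.2.1 v = v - x := by
      rw [siegel_apply, hxv, hyv, hQy]
      simp
    have hgp : siegel Q x y hL.1 hL.2.2.1 p = p :=
      siegel_fix _ _ (mem_perp.1 hp.1 x hx) (mem_perp.1 hp.1 y hy)
    have hgc := hC _ (mem_RR hL) c hc
    rw [← e, map_add, hgp] at hgv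
    have h2 : x = c - siegel Q x y hL.1 hL.2.2.1 c := by
      have h3 : siegel Q x y hL.1 hL.2.2.1 c = c - x := by
        have h4 : p + siegel Q x y hL.1 hL.2.2.1 c = p + (c - x) := by rw [hgv]; abel
        exact add_left_cancel h4
      rw [h3]; abel
    rw [h2]
    exact C.sub_mem hc hgc
  have hG : Good (res Q W) := good_res hW (by omega)
  obtain ⟨x, x', hxx⟩ := hG.exists_hyp
  have hWC : W ≤ C := by
    intro v hv
    exact sing_induction hxx (P := fun v : W => (v : V) ∈ C) (fun a c ha hc => C.add_mem ha hc)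
      (fun a ha => hsing a a.2 ha) ⟨v, hv⟩
  obtain ⟨z, w, hzw, hxz, hxw, hx'z, hx'w⟩ := hG.exists_hyp2 hxx
  rw [eq_bot_iff]
  intro p hp
  -- `y = p + (z - Q p w)` is singular and orthogonal to `x`
  have hzw1 : polar Q (z : V) (w : V) = 1 := hzw.pair
  have hQz : Q (z : V) = 0 := hzw.left
  have hQw : Q (w : V) = 0 := hzw.right
  have hxx1 : polar Q (x : V) (x' : V) = 1 := hxx.pair
  have hQx : Q (x : V) = 0 := hxx.left
  have hxz' : polar Q (x : V) (z : V) = 0 := hxz
  have hxw' : polar Q (x : V) (w : V) = 0 := hxw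
  have hx'z' : polar Q (x' : V) (z : V) = 0 := hx'z
  have hx'w' : polar Q (x' : V) (w : V) = 0 := hx'w
  set y1 : V := (z : V) - Q p • (w : V) with hy1
  have hy1W : y1 ∈ W := W.sub_mem z.2 (W.smul_mem _ w.2)
  have hQy1 : Q y1 = - Q p := by
    rw [hy1, sub_eq_add_neg, Q_add, QuadraticMap.map_neg, QuadraticMap.map_smul, hQz, hQw, polar_neg_right,
      polar_smul_right, hzw1]
    simp
  have hxy1 : polar Q (x : V) y1 = 0 := by
    rw [hy1, polar_sub_right, polar_smul_right, hxz', hxw', smul_zero, sub_zero]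
  have hxp : polar Q (x : V) p = 0 := mem_perp.1 hp.1 x x.2
  have hx'p : polar Q (x' : V) p = 0 := mem_perp.1 hp.1 x' x'.2
  have hL : Lr Q H (x : V) (p + y1) := by
    refine ⟨hQx, ?_, ?_, fun c => ?_⟩
    · rw [Q_add, hQy1, polar_comm, mem_perp.1 hp.1 y1 hy1W]
      ring
    · rw [polar_add_right, hxp, hxy1, add_zero]
    · rw [smul_add]
      refine (hp.2 x x.2 hQx c).add (hasW x x.2 _ (W.smul_mem _ hy1W) hQx ?_)
      rw [polar_smul_right, hxy1, smul_zero]
  have h1 := hC _ (mem_RR hL) x' (hWC x'.2)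
  rw [siegel_apply, hL.2.1, zero_mul, zero_smul, sub_zero, hxx1, one_smul] at h1
  have h2 : p ∈ C := by
    have h3 : p = ((x' : V) + (p + y1) - polar Q (p + y1) (x' : V) • (x : V)) - (x' : V) - y1 +
        polar Q (p + y1) (x' : V) • (x : V) := by abel
    rw [h3]
    exact C.add_mem (C.sub_mem (C.sub_mem h1 (hWC x'.2)) (hWC hy1W)) (C.smul_mem _ (hWC x.2))
  have h3 : p ∈ PP Q H W ⊓ C := ⟨hp, h2⟩
  rwa [hcomp.inf_eq_bot] at h3

/-! ### (7) -/

theorem side (hQ : Nondeg Q) (hH : H ≤ O Q) (hW : NondegOn Q W) (hd8 : 8 ≤ Module.finrank F W) (hasW : HasW Q H W)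
    (hbot : PP Q H W = ⊥) {s t : V} (h : Lr Q H s t) (hs : s ≠ 0) (hst : t ∉ Submodule.span F {s}) :
    (s ∈ W ∧ t ∈ W) ∨ (s ∈ perp Q W ∧ t ∈ perp Q W) := by
  obtain ⟨a, ha, b, hb, rfl⟩ := hW.exists_decomp s
  obtain ⟨c, hc, d, hd, rfl⟩ := hW.exists_decomp t
  have hb0 : c ∉ Submodule.span F {a} → b = 0 := by
    intro hn
    have := four hQ hH hW hd8 hasW ha hb hc hd h hn
    rwa [hbot, Submodule.mem_bot] at this
  have hd0 : a ∉ Submodule.span F {c} → d = 0 := by
    intro hn
    have := four hQ hH hW hd8 hasW hc hd ha hb h.swap hn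
    rwa [hbot, Submodule.mem_bot] at this
  by_cases h1 : c ∈ Submodule.span F {a}
  · by_cases h2 : a ∈ Submodule.span F {c}
    · by_cases ha0 : a = 0
      · right
        have hc0 : c = 0 := by
          rw [ha0, Submodule.span_zero_singleton, Submodule.mem_bot] at h1
          exact h1
        rw [ha0, hc0, zero_add, zero_add]
        exact ⟨hb, hd⟩
      · exfalso
        obtain ⟨k, hk⟩ := Submodule.mem_span_singleton.1 h1
        have h3 := h.sub_self k
        have e : c + d - k • (a + b) = 0 + (d - k • b) := by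
          rw [← hk]; module
        rw [e] at h3
        have h4 := four hQ hH hW hd8 hasW W.zero_mem (Submodule.sub_mem _ hd (Submodule.smul_mem _ k hb)) ha hb h3.swap
          (by rw [Submodule.span_zero_singleton, Submodule.mem_bot]; exact ha0)
        rw [hbot, Submodule.mem_bot] at h4
        rw [h4, add_zero, sub_eq_zero] at e
        apply hst
        rw [e]
        exact Submodule.smul_mem _ _ (Submodule.mem_span_singleton_self _)
    · -- `a ∉ ⟨c⟩`, `c ∈ ⟨a⟩`: then `c = 0`, `d = 0`, `t = 0`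
      exfalso
      have h3 := hd0 h2
      obtain ⟨k, hk⟩ := Submodule.mem_span_singleton.1 h1
      by_cases hk0 : k = 0
      · rw [hk0, zero_smul] at hk
        apply hst
        rw [← hk, h3, add_zero]
        exact Submodule.zero_mem _
      · apply h2
        rw [Submodule.mem_span_singleton]
        exact ⟨k⁻¹, by rw [← hk, smul_smul, inv_mul_cancel₀ hk0, one_smul]⟩
  · have hb1 := hb0 h1
    by_cases h2 : a ∈ Submodule.span F {c}
    · exfalso
      obtain ⟨k, hk⟩ := Submodule.mem_span_singleton.1 h2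
      by_cases hk0 : k = 0
      · rw [hk0, zero_smul] at hk
        apply hs
        rw [← hk, hb1, add_zero]
      · apply h1
        rw [Submodule.mem_span_singleton]
        exact ⟨k⁻¹, by rw [← hk, smul_smul, inv_mul_cancel₀ hk0, one_smul]⟩
    · left
      rw [hb1, hd0 h2, add_zero, add_zero]
      exact ⟨ha, hc⟩

/-! ### (8) -/

theorem block (hQ : Nondeg Q) (hH : H ≤ O Q) (hW : NondegOn Q W) (hd8 : 8 ≤ Module.finrank F W) (hasW : HasW Q H W)
    (hbot : PP Q H W = ⊥) {h : V ≃ₗ[F] V} (hh : h ∈ H) :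
    (∀ x ∈ W, h x ∈ W) ∨ (∀ x ∈ W, h x ∈ perp Q W) := by
  have hside : ∀ x ∈ W, ∀ y ∈ W, Q x = 0 → Q y = 0 → polar Q x y = 0 → x ≠ 0 → y ∉ Submodule.span F {x} →
      (h x ∈ W ∧ h y ∈ W) ∨ (h x ∈ perp Q W ∧ h y ∈ perp Q W) := by
    intro x hx y hy hQx hQy hxy hx0 hxy'
    refine side hQ hH hW hd8 hasW hbot ((hasW.lr hx hy hQx hQy hxy).map (hH hh) hh) ?_ ?_
    · intro h0
      exact hx0 (h.injective (by rw [h0, map_zero]))
    · intro hm
      obtain ⟨k, hk⟩ := Submodule.mem_span_singleton.1 hm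
      apply hxy'
      rw [Submodule.mem_span_singleton]
      exact ⟨k, h.injective (by rw [map_smul, hk])⟩
  have hnot : ∀ v : V, v ∈ W → v ∈ perp Q W → v = 0 := fun v hv hv' =>
    hW v hv fun z hz => mem_perp'.1 hv' z hz
  have hG : Good (res Q W) := good_res hW (by omega)
  obtain ⟨x, x', hxx⟩ := hG.exists_hyp
  have hQx : Q (x : V) = 0 := hxx.left
  have hx0 : (x : V) ≠ 0 := fun h0 => hxx.left_ne (Subtype.ext h0)
  have hall : ∀ y ∈ W, Q y = 0 → (h x ∈ W → h y ∈ W) ∧ (h x ∈ perp Q W → h y ∈ perp Q W) ∧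
      (h x ∈ W ∨ h x ∈ perp Q W) := by
    intro y hy hQy
    have hf := finrank_span_pair_le (F := F) (x : V) y
    obtain ⟨z, hz, hzo, hzn, hQz⟩ := ex_sing hQ W (Submodule.span F {(x : V), y}) (Submodule.span F {(x : V), y})
      (by omega)
    have hxz := hzo x (Submodule.subset_span (by simp))
    have hyz := hzo y (Submodule.subset_span (by simp))
    have hz0 : z ≠ 0 := fun h0 => hzn (by rw [h0]; exact Submodule.zero_mem _)
    have h1 := hside x x.2 z hz hQx hQz hxz hx0 (fun hm => hzn (Submodule.span_mono (by simp) hm))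
    have hhz0 : h z ≠ 0 := fun h0 => hz0 (h.injective (by rw [h0, map_zero]))
    have hhx0 : h x ≠ 0 := fun h0 => hx0 (h.injective (by rw [h0, map_zero]))
    by_cases hy0 : y = 0
    · rw [hy0, map_zero]
      exact ⟨fun _ => W.zero_mem, fun _ => Submodule.zero_mem _, h1.imp And.left And.left⟩
    have h2 := hside y hy z hz hQy hQz hyz hy0 (fun hm => hzn (Submodule.span_mono (by simp) hm))
    refine ⟨fun hxW => ?_, fun hxW => ?_, h1.imp And.left And.left⟩
    · rcases h1 with h1 | h1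
      · rcases h2 with h2 | h2
        · exact h2.1
        · exact absurd (hnot _ h1.2 h2.2) hhz0
      · exact absurd (hnot _ hxW h1.1) hhx0
    · rcases h1 with h1 | h1
      · exact absurd (hnot _ h1.1 hxW) hhx0
      · rcases h2 with h2 | h2
        · exact absurd (hnot _ h2.2 h1.2) hhz0
        · exact h2.1
  rcases (hall 0 W.zero_mem (QuadraticMap.map_zero Q)).2.2 with hx | hx
  · left
    intro v hv
    exact sing_induction hxx (P := fun v : W => h (v : V) ∈ W)
      (fun a c ha hc => by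
        show h ((a : V) + (c : V)) ∈ W
        rw [map_add]; exact W.add_mem ha hc)
      (fun a ha => (hall a a.2 ha).1 hx) ⟨v, hv⟩
  · right
    intro v hv
    exact sing_induction hxx (P := fun v : W => h (v : V) ∈ perp Q W)
      (fun a c ha hc => by
        show h ((a : V) + (c : V)) ∈ perp Q W
        rw [map_add]; exact Submodule.add_mem _ ha hc)
      (fun a ha => (hall a a.2 ha).2.1 hx) ⟨v, hv⟩

end fin

/-- **BS33** (generation, orthogonal groups, all characteristics) -/
theorem gen_omega [Finite F] [FiniteDimensional F V] (hQ : Nondeg Q) (hH : H ≤ O Q) (hirr : IrrG H)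
    {W₀ : Submodule F V} (hW₀ : (frmQ Q).NdOn W₀) (hd : 8 ≤ Module.finrank F W₀)
    (hhas : ∀ u ∈ W₀, ∀ w ∈ W₀, Q u = 0 → polar Q u w = 0 → Has Q H u w) :
    E Q ≤ H ∨ ∃ D : Submodule F V, Blk (frmQ Q) H D ∧ 8 ≤ Module.finrank F D := by
  have wf : WellFounded ((· > ·) : Submodule F V → Submodule F V → Prop) := wellFounded_gt
  obtain ⟨W, ⟨hW, hasW, hd8⟩, hmax⟩ := wf.has_min
    {W : Submodule F V | NondegOn Q W ∧ HasW Q H W ∧ 8 ≤ Module.finrank F W} ⟨W₀, hW₀, hhas, hd⟩
  have hmax' : ∀ W' : Submodule F V, NondegOn Q W' → HasW Q H W' → W ≤ W' → W' = W := by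
    intro W' h1 h2 h3
    by_contra hne
    exact hmax W' ⟨h1, h2, hd8.trans (Submodule.finrank_mono h3)⟩ (lt_of_le_of_ne h3 (Ne.symm hne))
  have hiso := iso_of_max hW (by omega) hasW hmax'
  have hbot := PP_eq_bot hQ hH hirr hW hd8 hasW hiso
  by_cases htop : W = ⊤
  · left
    have hG : Good Q := good_of_finite hQ (by
      rw [htop, finrank_top] at hd8
      omega)
    refine E_le_of_sing hG fun u w hu _ hp => hasW u (by rw [htop]; exact Submodule.mem_top) w
      (by rw [htop]; exact Submodule.mem_top) hu hp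
  · right
    refine ⟨W, ⟨htop, hW, fun h hh => ?_⟩, hd8⟩
    rcases block hQ hH hW hd8 hasW hbot hh with h1 | h1
    · left
      refine Submodule.eq_of_le_of_finrank_eq ?_ ?_
      · rintro _ ⟨x, hx, rfl⟩
        exact h1 x hx
      · exact LinearEquiv.finrank_map_eq h W
    · right
      rintro _ ⟨x, hx, rfl⟩ y hy
      show polar Q (h x) y = 0
      rw [polar_comm]
      exact mem_perp.1 (h1 x hx) y hy

end Cfsg.Agent.H984.Bs
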