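import Cfsg.Agent.H847.Bs.Defs2
import Cfsg.Agent.H883.Sub

/-!
# S5733, BS33, preliminaries (helper984)

* `exists_compl` : (Clifford) if `H` is irreducible and normalises `R` then every `R`-invariant subspace has an
  `R`-invariant complement;
* `ex_sing`, `sep`, `ex_line` : existence of singular vectors in nondegenerate subspaces.
-/

set_option autoImplicit false

namespace Cfsg.Agent.H984.Bs

open QuadraticMap Cfsg.Agent.LieClassical.OrthCore Cfsg.Agent.LieClassical.OrthTrans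
  Cfsg.Agent.LieClassical.OrthFinite Cfsg.Agent.H883.Root Cfsg.Agent.H883.Sub Cfsg.Agent.H847.Bs

section clifford

variable {F V : Type*} [Field F] [AddCommGroup V] [Module F V]

theorem Inv.sup' {x : V ≃ₗ[F] V} {Y Z : Submodule F V} (h : Inv x Y) (h' : Inv x Z) : Inv x (Y ⊔ Z) := by
  intro v hv
  obtain ⟨y, hy, z, hz, rfl⟩ := Submodule.mem_sup.1 hv
  rw [map_add]
  exact Submodule.add_mem_sup (h y hy) (h' z hz)

theorem Inv.inf' {x : V ≃ₗ[F] V} {Y Z : Submodule F V} (h : Inv x Y) (h' : Inv x Z) : Inv x (Y ⊓ Z) :=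
  fun v hv => ⟨h v hv.1, h' v hv.2⟩

theorem exists_compl [FiniteDimensional F V] {H R : Subgroup (V ≃ₗ[F] V)} (hR : ∀ h ∈ H, ∀ r ∈ R, h⁻¹ * r * h ∈ R)
    (hirr : IrrG H) {P : Submodule F V} (hP : ∀ r ∈ R, Inv r P) :
    ∃ C : Submodule F V, (∀ r ∈ R, Inv r C) ∧ IsCompl P C := by
  have wf : WellFounded ((· > ·) : Submodule F V → Submodule F V → Prop) := wellFounded_gt
  obtain ⟨C, ⟨hC1, hC2⟩, hmax⟩ := wf.has_min {C : Submodule F V | (∀ r ∈ R, Inv r C) ∧ Disjoint P C}
    ⟨⊥, fun r _ v hv => by rw [Submodule.mem_bot] at hv; rw [hv, map_zero]; exact Submodule.zero_mem _, disjoint_bot_right⟩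
  refine ⟨C, hC1, hC2, ?_⟩
  rw [codisjoint_iff]
  by_contra htop
  -- a minimal invariant subspace
  have wf' : WellFounded ((· < ·) : Submodule F V → Submodule F V → Prop) := wellFounded_lt
  have hne : (⊤ : Submodule F V) ≠ ⊥ := by
    intro h
    apply htop
    rw [h, eq_bot_iff, ← h]
    exact le_top
  obtain ⟨S, ⟨hS1, hS2⟩, hmin⟩ := wf'.has_min {S : Submodule F V | (∀ r ∈ R, Inv r S) ∧ S ≠ ⊥}
    ⟨⊤, fun r _ v _ => Submodule.mem_top, hne⟩
  have hsum : (⨆ h : H, S.map ((h : V ≃ₗ[F] V) : V →ₗ[F] V)) = ⊤ := by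
    refine (hirr _ ?_).resolve_left ?_
    · intro g hg v hv
      refine Submodule.iSup_induction (fun h : H => S.map ((h : V ≃ₗ[F] V) : V →ₗ[F] V))
        (motive := fun v => g v ∈ ⨆ h : H, S.map ((h : V ≃ₗ[F] V) : V →ₗ[F] V)) hv ?_ ?_ ?_
      · rintro h _ ⟨w, hw, rfl⟩
        exact Submodule.mem_iSup_of_mem (⟨g, hg⟩ * h) ⟨w, hw, rfl⟩
      · rw [map_zero]; exact Submodule.zero_mem _
      · intro x y hx hy
        rw [map_add]
        exact Submodule.add_mem _ hx hy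
    · intro h
      apply hS2
      rw [eq_bot_iff, ← h]
      intro v hv
      exact Submodule.mem_iSup_of_mem 1 ⟨v, hv, rfl⟩
  obtain ⟨h, hh⟩ : ∃ h : H, ¬ S.map ((h : V ≃ₗ[F] V) : V →ₗ[F] V) ≤ P ⊔ C := by
    by_contra hcon
    push Not at hcon
    apply htop
    rw [eq_top_iff, ← hsum]
    exact iSup_le hcon
  set S' := S.map ((h : V ≃ₗ[F] V) : V →ₗ[F] V) with hS'
  have hinv' : ∀ r ∈ R, Inv r S' := by
    rintro r hr _ ⟨w, hw, rfl⟩
    refine ⟨((h : V ≃ₗ[F] V)⁻¹ * r * (h : V ≃ₗ[F] V)) w, hS1 _ (hR _ h.2 r hr) w hw, ?_⟩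
    show (h : V ≃ₗ[F] V) ((h : V ≃ₗ[F] V)⁻¹ (r ((h : V ≃ₗ[F] V) w))) = r ((h : V ≃ₗ[F] V) w)
    exact (h : V ≃ₗ[F] V).apply_symm_apply _
  -- `S'` is minimal
  have hmin' : Disjoint (P ⊔ C) S' := by
    rw [disjoint_iff]
    by_contra hb
    set T := ((P ⊔ C) ⊓ S').comap ((h : V ≃ₗ[F] V) : V →ₗ[F] V) with hT
    have hTS : T ≤ S := by
      intro v hv
      obtain ⟨w, hw, e⟩ := (Submodule.mem_comap.1 hv).2
      have : w = v := (h : V ≃ₗ[F] V).injective e
      rwa [← this]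
    have hTi : ∀ r ∈ R, Inv r T := by
      intro r hr v hv
      have h1 : ((h : V ≃ₗ[F] V) * r * (h : V ≃ₗ[F] V)⁻¹) ∈ R := by
        have := hR _ (H.inv_mem h.2) r hr
        rwa [inv_inv] at this
      have h2 : Inv ((h : V ≃ₗ[F] V) * r * (h : V ≃ₗ[F] V)⁻¹) ((P ⊔ C) ⊓ S') :=
        Inv.inf' (Inv.sup' (hP _ h1) (hC1 _ h1)) (hinv' _ h1)
      have h3 : ((h : V ≃ₗ[F] V) * r * (h : V ≃ₗ[F] V)⁻¹) ((h : V ≃ₗ[F] V) v) ∈ (P ⊔ C) ⊓ S' :=
        h2 _ (Submodule.mem_comap.1 hv)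
      have h4 : ((h : V ≃ₗ[F] V) * r * (h : V ≃ₗ[F] V)⁻¹) ((h : V ≃ₗ[F] V) v) = (h : V ≃ₗ[F] V) (r v) := by
        show (h : V ≃ₗ[F] V) (r ((h : V ≃ₗ[F] V)⁻¹ ((h : V ≃ₗ[F] V) v))) = _
        congr 2
        exact (h : V ≃ₗ[F] V).symm_apply_apply v
      rw [h4] at h3
      exact h3
    have hT0 : T ≠ ⊥ := by
      intro h0
      apply hb
      rw [eq_bot_iff]
      intro v hv
      obtain ⟨w, hw, e⟩ := hv.2
      have h1 : w ∈ T := by
        rw [hT, Submodule.mem_comap]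
        have e' : ((h : V ≃ₗ[F] V) : V →ₗ[F] V) w = v := e
        rw [e']
        exact hv
      rw [h0, Submodule.mem_bot] at h1
      rw [Submodule.mem_bot, ← e, h1, map_zero]
    have hTeq : T = S := by
      by_contra hne'
      exact hmin T ⟨hTi, hT0⟩ (lt_of_le_of_ne hTS hne')
    apply hh
    intro v hv
    obtain ⟨w, hw, rfl⟩ := hv
    have h1 : w ∈ T := by rw [hTeq]; exact hw
    exact (Submodule.mem_comap.1 h1).1
  have hd : Disjoint P (C ⊔ S') := hC2.disjoint_sup_right_of_disjoint_sup_left hmin'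
  refine hmax (C ⊔ S') ⟨fun r hr => Inv.sup' (hC1 r hr) (hinv' r hr), hd⟩ ?_
  refine lt_of_le_of_ne le_sup_left fun h => hh ?_
  calc S' ≤ C ⊔ S' := le_sup_right
    _ = C := h.symm
    _ ≤ P ⊔ C := le_sup_right

end clifford

section sing

variable {F V : Type*} [Field F] [AddCommGroup V] [Module F V] [FiniteDimensional F V] {Q : QuadraticForm F V}

theorem finrank_inf_perp (hQ : Nondeg Q) (W T : Submodule F V) :
    Module.finrank F W ≤ Module.finrank F (W ⊓ perp Q T : Submodule F V) + Module.finrank F T := by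
  have h1 := finrank_perp hQ T
  have h2 := Submodule.finrank_sup_add_finrank_inf_eq W (perp Q T)
  have h3 : Module.finrank F (W ⊔ perp Q T : Submodule F V) ≤ Module.finrank F V := Submodule.finrank_le _
  omega

omit [FiniteDimensional F V] in
/-- avoiding a subspace -/
theorem sing_avoid [Finite F] [FiniteDimensional F V] (S T : Submodule F V)
    (h : Module.finrank F T + 3 ≤ Module.finrank F S) : ∃ w ∈ S, w ∉ T ∧ Q w = 0 := by
  obtain ⟨C, hC⟩ := Submodule.exists_isCompl (T.comap S.subtype)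
  have h1 : Module.finrank F (T.comap S.subtype) ≤ Module.finrank F T := by
    have h2 : Module.finrank F (T.comap S.subtype) = Module.finrank F ((T.comap S.subtype).map S.subtype) :=
      (Submodule.finrank_map_subtype_eq S _).symm
    rw [h2]
    exact Submodule.finrank_mono (Submodule.map_comap_le _ _)
  have h2 := Submodule.finrank_add_eq_of_isCompl hC
  have h3 : Module.finrank F (C.map S.subtype) = Module.finrank F C := Submodule.finrank_map_subtype_eq S C
  obtain ⟨w, hw, hw0, hQw⟩ := exists_sing_mem (Q := Q) (C.map S.subtype) (by omega)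
  obtain ⟨c, hc, rfl⟩ := hw
  refine ⟨c, c.2, fun hcT => hw0 ?_, hQw⟩
  have h4 : c ∈ T.comap S.subtype ⊓ C := ⟨hcT, hc⟩
  rw [hC.inf_eq_bot, Submodule.mem_bot] at h4
  rw [h4]
  rfl

/-- singular vectors orthogonal to `T` and outside `T'` -/
theorem ex_sing [Finite F] (hQ : Nondeg Q) (W T T' : Submodule F V)
    (h : Module.finrank F T + Module.finrank F T' + 3 ≤ Module.finrank F W) :
    ∃ w ∈ W, (∀ t ∈ T, polar Q t w = 0) ∧ w ∉ T' ∧ Q w = 0 := by
  have h1 := finrank_inf_perp hQ W T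
  obtain ⟨w, hw, hw', hQw⟩ := sing_avoid (Q := Q) (W ⊓ perp Q T) T' (by omega)
  exact ⟨w, hw.1, fun t ht => mem_perp.1 hw.2 t ht, hw', hQw⟩

/-- separation inside a nondegenerate subspace -/
theorem sep (hQ : Nondeg Q) {W T : Submodule F V} (hW : NondegOn Q W) (hTW : T ≤ W) {x : V} (hx : x ∈ W) (hxT : x ∉ T) :
    ∃ n ∈ W, (∀ t ∈ T, polar Q t n = 0) ∧ polar Q x n ≠ 0 := by
  have h1 : x ∉ perp Q (perp Q T) := by rwa [perp_perp hQ]
  rw [mem_perp] at h1
  push Not at h1
  obtain ⟨n, hn, hnx⟩ := h1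
  obtain ⟨w, hw, w', hw', rfl⟩ := hW.exists_decomp n
  refine ⟨w, hw, fun t ht => ?_, fun h0 => hnx ?_⟩
  · have h2 := mem_perp.1 hn t ht
    rw [polar_add_right, mem_perp.1 hw' t (hTW ht), add_zero] at h2
    exact h2
  · rw [polar_add_left, polar_comm Q w x, h0, mem_perp'.1 hw' x hx, add_zero]

omit [FiniteDimensional F V] in
theorem finrank_span_pair_le (a c : V) : Module.finrank F (Submodule.span F {a, c}) ≤ 2 := by
  classical
  have h := finrank_span_finset_le_card (R := F) ({a, c} : Finset V)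
  rw [Finset.coe_insert, Finset.coe_singleton] at h
  exact h.trans Finset.card_le_two

omit [FiniteDimensional F V] in
theorem finrank_span_single_le (a : V) : Module.finrank F (Submodule.span F {a}) ≤ 1 := by
  have h := finrank_span_le_card (R := F) ({a} : Set V)
  refine h.trans ?_
  simp

/-- a singular vector orthogonal to `a` and not to `c` -/
theorem ex_move [Finite F] (hQ : Nondeg Q) {W : Submodule F V} (hW : NondegOn Q W) (hd : 8 ≤ Module.finrank F W)
    {a c : V} (ha : a ∈ W) (hc : c ∈ W) (hac : c ∉ Submodule.span F {a}) :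
    ∃ x ∈ W, Q x = 0 ∧ polar Q a x = 0 ∧ polar Q c x ≠ 0 := by
  have hT : Submodule.span F {a, c} ≤ W := by
    rw [Submodule.span_le]
    rintro z (rfl | hz)
    · exact ha
    · rw [Set.mem_singleton_iff] at hz
      rw [hz]; exact hc
  have haT : a ∈ Submodule.span F {a, c} := Submodule.subset_span (by simp)
  have hcT : c ∈ Submodule.span F {a, c} := Submodule.subset_span (by simp)
  have hf := finrank_span_pair_le (F := F) a c
  obtain ⟨x0, hx0W, hx0, hx0T, hQx0⟩ := ex_sing hQ W (Submodule.span F {a, c}) (Submodule.span F {a, c}) (by omega)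
  obtain ⟨n, hnW, hn, hnx⟩ := sep hQ hW hT hx0W hx0T
  obtain ⟨z, hzW, hz, hzc⟩ := sep hQ hW (T := Submodule.span F {a})
    (by rw [Submodule.span_le, Set.singleton_subset_iff]; exact ha) hc hac
  obtain ⟨z', hz'W, hz'a, hz'c, hz'x⟩ : ∃ z' ∈ W, polar Q a z' = 0 ∧ polar Q c z' ≠ 0 ∧ polar Q x0 z' ≠ 0 := by
    by_cases h : polar Q x0 z = 0
    · refine ⟨z + n, W.add_mem hzW hnW, ?_, ?_, ?_⟩
      · rw [polar_add_right, hz a (Submodule.mem_span_singleton_self a), hn a haT, add_zero]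
      · rw [polar_add_right, hn c hcT, add_zero]; exact hzc
      · rw [polar_add_right, h, zero_add]; exact hnx
    · exact ⟨z, hzW, hz a (Submodule.mem_span_singleton_self a), hzc, h⟩
  have e1 : polar Q z' x0 ≠ 0 := by rwa [polar_comm]
  refine ⟨z' + (-(Q z' * (polar Q z' x0)⁻¹)) • x0, W.add_mem hz'W (W.smul_mem _ hx0W), ?_, ?_, ?_⟩
  · rw [Q_add, QuadraticMap.map_smul, hQx0, polar_smul_right, smul_eq_mul, smul_eq_mul]
    field_simp
    ring
  · rw [polar_add_right, hz'a, polar_smul_right, hx0 a haT, smul_zero, add_zero]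
  · rw [polar_add_right, polar_smul_right, hx0 c hcT, smul_zero, add_zero]
    exact hz'c

/-- a totally singular line orthogonal to `a` and not to `c` -/
theorem ex_line [Finite F] (hQ : Nondeg Q) {W : Submodule F V} (hW : NondegOn Q W) (hd : 8 ≤ Module.finrank F W)
    {a c : V} (ha : a ∈ W) (hc : c ∈ W) (hac : c ∉ Submodule.span F {a}) :
    ∃ x ∈ W, ∃ y ∈ W, Q x = 0 ∧ Q y = 0 ∧ polar Q x y = 0 ∧ y ∉ Submodule.span F {x} ∧ polar Q a x = 0 ∧
      polar Q a y = 0 ∧ polar Q c x ≠ 0 := by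
  obtain ⟨x, hxW, hQx, hax, hcx⟩ := ex_move hQ hW hd ha hc hac
  have h1 := finrank_span_pair_le (F := F) a x
  have h2 := finrank_span_single_le (F := F) x
  obtain ⟨y, hyW, hy, hyx, hQy⟩ := ex_sing hQ W (Submodule.span F {a, x}) (Submodule.span F {x}) (by omega)
  exact ⟨x, hxW, y, hyW, hQx, hQy, hy x (Submodule.subset_span (by simp)), hyx, hax,
    hy a (Submodule.subset_span (by simp)), hcx⟩

end sing

end Cfsg.Agent.H984.Bs
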